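import Groth.Prelude.Def_CohTop
import Mathlib.CategoryTheory.Sites.Abelian
import Mathlib.CategoryTheory.Sites.EpiMono
import Mathlib.Algebra.Homology.DerivedCategory.Ext.ExactSequences
import Mathlib.CategoryTheory.Abelian.Refinements

/-!
# Short exact sequences of abelian sheaves on a space and their cohomology
-/

universe u

open CategoryTheory CategoryTheory.Limits TopologicalSpace Opposite Abelian

noncomputable section

namespace GrothLib.UnitsThick26

variable {X : TopCat.{u}}

/-- A short complex is short exact if it is left exact on sections and locally surjective. -/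
theorem shortExact_of_sections (S : ShortComplex (CohTop.Ab X))
    (hinj : ∀ V : Opens X, Function.Injective (S.f.hom.app (op V)))
    (hker : ∀ (V : Opens X) (a : S.X₂.obj.obj (op V)), S.g.hom.app (op V) a = 0 →
      ∃ b, S.f.hom.app (op V) b = a)
    (hsurj : ∀ (V : Opens X) (x : X), x ∈ V → ∀ c : S.X₃.obj.obj (op V),
      ∃ (W : Opens X) (h : W ≤ V), x ∈ W ∧
        ∃ b, S.g.hom.app (op W) b = S.X₃.obj.map (homOfLE h).op c) :
    S.ShortExact := by
  have hmono : Mono S.f := by
    have : ∀ V, Mono (S.f.hom.app V) := fun V => (AddCommGrpCat.mono_iff_injective _).2 (hinj V.unop)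
    have h2 : Mono ((sheafToPresheaf (Opens.grothendieckTopology X) AddCommGrpCat.{u}).map S.f) :=
      NatTrans.mono_of_mono_app S.f.hom
    exact (sheafToPresheaf _ AddCommGrpCat.{u}).mono_of_mono_map h2
  have hepi : Epi S.g := by
    rw [← Sheaf.isLocallySurjective_iff_epi']
    refine ⟨fun {V} c x hx => ?_⟩
    obtain ⟨W, h, hxW, b, hb⟩ := hsurj V x hx c
    exact ⟨W, homOfLE h, ⟨b, hb⟩, hxW⟩
  refine { exact := ?_, mono_f := hmono, epi_g := hepi }
  rw [S.exact_iff_epi_kernel_lift]
  let L := kernel.lift S.g S.f S.zero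
  haveI : ∀ V : (Opens X)ᵒᵖ, IsIso (L.hom.app V) := fun V => by
    rw [ConcreteCategory.isIso_iff_bijective]
    let G := sheafToPresheaf (Opens.grothendieckTopology X) AddCommGrpCat.{u} ⋙
      (evaluation _ _).obj V
    haveI : PreservesLimits G := comp_preservesLimits _ _
    haveI : PreservesLimitsOfSize.{0, 0} G := preservesLimitsOfSize_shrink.{0, u, 0, u} _
    haveI : G.PreservesZeroMorphisms := ⟨fun A B => rfl⟩
    have hι : Function.Injective ((kernel.ι S.g).hom.app V) :=
      (AddCommGrpCat.mono_iff_injective _).1 (inferInstance : Mono (G.map (kernel.ι S.g)))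
    have hfac : ∀ b, (kernel.ι S.g).hom.app V (L.hom.app V b) = S.f.hom.app V b := fun b =>
      ConcreteCategory.congr_hom (congrArg (fun t : S.X₁ ⟶ S.X₂ => t.hom.app V) (kernel.lift_ι S.g S.f S.zero)) b
    refine ⟨fun a b hab => hinj V.unop ((hfac a).symm.trans ((congrArg _ hab).trans (hfac b))), fun k => ?_⟩
    have hk : S.g.hom.app V ((kernel.ι S.g).hom.app V k) = 0 :=
      ConcreteCategory.congr_hom (congrArg (fun t : kernel S.g ⟶ S.X₃ => t.hom.app V) (kernel.condition S.g)) k
    obtain ⟨b, hb⟩ := hker V.unop _ hk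
    exact ⟨b, hι ((hfac b).trans hb)⟩
  haveI : IsIso ((sheafToPresheaf (Opens.grothendieckTopology X) AddCommGrpCat.{u}).map L) :=
    NatIso.isIso_of_isIso_app L.hom
  haveI : IsIso L := isIso_of_fully_faithful (sheafToPresheaf _ _) L
  infer_instance

/-- `H^q` of the quotient map is surjective when `H^{q+1}` of the kernel vanishes. -/
theorem surjective_map_g {S : ShortComplex (CohTop.Ab X)} (hS : S.ShortExact) (q : ℕ)
    (h : Subsingleton (Sheaf.H.{u} S.X₁ (q + 1))) : Function.Surjective (Sheaf.H.map S.g q) := by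
  intro x
  obtain ⟨y, hy⟩ := Ext.covariant_sequence_exact₃ _ hS x rfl (h.elim _ _)
  exact ⟨y, hy⟩

/-- `H^q` of the middle term vanishes when it does for the outer terms. -/
theorem subsingleton_middle {S : ShortComplex (CohTop.Ab X)} (hS : S.ShortExact) (q : ℕ)
    (h1 : Subsingleton (Sheaf.H.{u} S.X₁ q)) (h3 : Subsingleton (Sheaf.H.{u} S.X₃ q)) :
    Subsingleton (Sheaf.H.{u} S.X₂ q) := by
  refine subsingleton_of_forall_eq 0 fun x => ?_
  obtain ⟨y, hy⟩ := Ext.covariant_sequence_exact₂ _ hS x (h3.elim _ _)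
  rw [← hy, h1.elim y 0, Ext.zero_comp]

/-- For a split short exact sequence the kernel on `H^q` is `H^q` of the first term. -/
theorem nonempty_ker_map_g_equiv {S : ShortComplex (CohTop.Ab X)} (hS : S.ShortExact)
    (σ : S.X₃ ⟶ S.X₂) (hσ : σ ≫ S.g = 𝟙 _) (q : ℕ) :
    Nonempty ((Sheaf.H.map S.g q).ker ≃+ Sheaf.H.{u} S.X₁ q) := by
  haveI := hS.mono_f
  haveI := hS.epi_g
  let sp := ShortComplex.Splitting.ofExactOfSection S hS.exact σ hσ hS.mono_f
  have hinj : Function.Injective (Sheaf.H.map S.f q) := fun a b hab => by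
    have := congrArg (Sheaf.H.map sp.r q) hab
    rwa [← Sheaf.H.map_comp_apply, ← Sheaf.H.map_comp_apply, sp.f_r, Sheaf.H.map_id_apply,
      Sheaf.H.map_id_apply] at this
  let φ : Sheaf.H.{u} S.X₁ q →+ (Sheaf.H.map S.g q).ker :=
    (Sheaf.H.map S.f q).codRestrict _ fun a => by
      rw [AddMonoidHom.mem_ker, ← Sheaf.H.map_comp_apply, S.zero, Sheaf.H.map_apply, Ext.mk₀_zero, Ext.comp_zero]
  refine ⟨(AddEquiv.ofBijective φ ⟨fun a b hab => hinj (congrArg Subtype.val hab), fun y => ?_⟩).symm⟩
  obtain ⟨z, hz⟩ := Ext.covariant_sequence_exact₂ _ hS y.1 y.2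
  exact ⟨z, Subtype.ext hz⟩

variable {A : Type*} [Category A] [Abelian A]

/-- The kernels along a composite whose first map is an epimorphism. -/
theorem shortExact_kernels_comp {F G K : A} (f : F ⟶ G) (g : G ⟶ K) [Epi f] :
    (ShortComplex.mk (kernel.map f (f ≫ g) (𝟙 F) g (by simp))
      (kernel.map (f ≫ g) g f (𝟙 K) (by simp)) (by ext; simp)).ShortExact := by
  refine { exact := ?_, mono_f := mono_of_mono_fac (kernel.lift_ι _ _ _), epi_g := ?_ }
  · rw [ShortComplex.exact_iff_exact_up_to_refinements]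
    intro T a ha
    change a ≫ kernel.map (f ≫ g) g f (𝟙 K) (by simp) = 0 at ha
    have h : (a ≫ kernel.ι (f ≫ g)) ≫ f = 0 := by
      have := congrArg (· ≫ kernel.ι g) ha
      simpa using this
    refine ⟨T, 𝟙 T, inferInstance, kernel.lift f _ h, ?_⟩
    ext
    simp
  · rw [epi_iff_surjective_up_to_refinements]
    intro T a
    obtain ⟨T', π, hπ, b, hb⟩ := surjective_up_to_refinements_of_epi f (a ≫ kernel.ι g)
    refine ⟨T', π, hπ, kernel.lift (f ≫ g) b (by rw [← Category.assoc, ← hb]; simp), ?_⟩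
    ext
    simpa using hb

end GrothLib.UnitsThick26
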