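import Groth.Prelude.Def_UnitsSh
import Groth.Prelude.Def_ClSub2
import Groth.Prelude.Def_Coh
import Groth.Agent.Lib.IdealModSec.Basic
import Groth.Agent.Lib.UnitsThick26.SES
import Mathlib.AlgebraicGeometry.Morphisms.ClosedImmersion
import Mathlib.AlgebraicGeometry.Morphisms.Affine

/-!
# The units sequence `0 ⟶ K ⟶ O_Z^× ⟶ c_* O_{Z'}^× ⟶ 0` of a square-zero closed immersion
-/

universe u

set_option backward.isDefEq.respectTransparency false

open CategoryTheory CategoryTheory.Limits AlgebraicGeometry TopologicalSpace Opposite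

noncomputable section

namespace GrothLib.UnitsThick26

variable {Z' Z X : Scheme.{u}} (c : Z' ⟶ Z)

/-- The ideal of a morphism as a module. -/
abbrev kerMod : Z.Modules := kernel (ClSub.unitToPush c)

/-- The value of a section of the ideal as a function. -/
def kval (V : Z.Opens) (k : Γ(kerMod c, V)) : Γ(Z, V) :=
  (kernel.ι (ClSub.unitToPush c)).app V k

theorem kval_add (V : Z.Opens) (k l : Γ(kerMod c, V)) : kval c V (k + l) = kval c V k + kval c V l :=
  map_add ((kernel.ι (ClSub.unitToPush c)).app V).hom k l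

theorem kval_zero (V : Z.Opens) : kval c V 0 = 0 :=
  map_zero ((kernel.ι (ClSub.unitToPush c)).app V).hom

theorem kval_injective (V : Z.Opens) : Function.Injective (kval c V) :=
  (IdealModSec.app_kernel (ClSub.unitToPush c) V).1

theorem app_kval (V : Z.Opens) (k : Γ(kerMod c, V)) : c.app V (kval c V k) = 0 := by
  show (kernel.ι (ClSub.unitToPush c) ≫ ClSub.unitToPush c).app V k = 0
  rw [kernel.condition]
  rfl

theorem exists_kval {V : Z.Opens} {a : Γ(Z, V)} (ha : c.app V a = 0) : ∃ k, kval c V k = a :=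
  (IdealModSec.app_kernel (ClSub.unitToPush c) V).2 a ha

theorem kval_map {V W : Z.Opens} (i : (op V : Z.Opensᵒᵖ) ⟶ op W) (k : Γ(kerMod c, V)) :
    kval c W ((kerMod c).presheaf.map i k) = Z.presheaf.map i (kval c V k) :=
  ConcreteCategory.congr_hom ((kernel.ι (ClSub.unitToPush c)).mapPresheaf.naturality i) k

/-- The functions killed by `c` square to zero. -/
def IsSqZero : Prop :=
  ∀ (V : Z.Opens) (a b : Γ(Z, V)), c.app V a = 0 → c.app V b = 0 → a * b = 0

theorem isSqZero_of_affine (h : ∀ (W : Z.Opens), IsAffineOpen W → ∀ a b : Γ(Z, W),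
    c.app W a = 0 → c.app W b = 0 → a * b = 0) : IsSqZero c := by
  intro V a b ha hb
  refine TopCat.Presheaf.section_ext Z.sheaf V (a * b) 0 fun x hx => ?_
  obtain ⟨W, hW, hxW, hWV⟩ := exists_isAffineOpen_mem_and_subset (x := x) (U := V) hx
  let r := Z.presheaf.map (homOfLE (show W ≤ V from hWV)).op
  have hr : ∀ t : Γ(Z, V), c.app V t = 0 → c.app W (r t) = 0 := fun t ht => by
    have e := ConcreteCategory.congr_hom (c.naturality (homOfLE (show W ≤ V from hWV)).op) t
    refine e.trans ?_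
    show (Z'.presheaf.map _) (c.app V t) = 0
    rw [ht, map_zero]
  have h0 := h W hW (r a) (r b) (hr a ha) (hr b hb)
  rw [← map_mul] at h0
  change Z.presheaf.germ V x hx (a * b) = Z.presheaf.germ V x hx 0
  rw [← TopCat.Presheaf.germ_res_apply Z.presheaf (homOfLE (show W ≤ V from hWV)) x hxW (a * b)]
  show Z.presheaf.germ W x hxW (r (a * b)) = _
  rw [h0, map_zero, map_zero]

variable {c}

/-- The unit `1 + k`. -/
def oneAddUnit (hc : IsSqZero c) (V : Z.Opens) (k : Γ(kerMod c, V)) : (Γ(Z, V))ˣ where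
  val := 1 + kval c V k
  inv := 1 - kval c V k
  val_inv := by
    have h := hc V _ _ (app_kval c V k) (app_kval c V k)
    linear_combination -h
  inv_val := by
    have h := hc V _ _ (app_kval c V k) (app_kval c V k)
    linear_combination -h

/-- `K ⟶ O^×`, `k ↦ 1 + k`. -/
def oneAdd (hc : IsSqZero c) : Coh.toAb (kerMod c) ⟶ UnitsSh.unitsAb Z :=
  ⟨{ app := fun V => AddCommGrpCat.ofHom
        { toFun := fun k : Γ(kerMod c, V.unop) =>
            UnitsSh.sectOfUnit (O := Z.presheaf) (oneAddUnit hc V.unop k)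
          map_zero' := by
            refine congrArg UnitsSh.sectOfUnit (Units.ext ?_)
            show 1 + kval c V.unop 0 = 1
            rw [kval_zero, add_zero]
          map_add' := fun k l => by
            refine congrArg UnitsSh.sectOfUnit (Units.ext ?_)
            show 1 + kval c V.unop (k + l) = (1 + kval c V.unop k) * (1 + kval c V.unop l)
            have h := hc V.unop _ _ (app_kval c V.unop k) (app_kval c V.unop l)
            rw [kval_add]
            linear_combination -h }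
     naturality := fun {V W} i => by
        ext (k : Γ(kerMod c, V.unop))
        refine congrArg UnitsSh.sectOfUnit (Units.ext ?_)
        show 1 + kval c W.unop ((kerMod c).presheaf.map i k) = Z.presheaf.map i (1 + kval c V.unop k)
        rw [map_add, map_one, kval_map c (V := V.unop) (W := W.unop)] }⟩

theorem oneAdd_app (hc : IsSqZero c) (V : Z.Opens) (k : Γ(kerMod c, V)) :
    ((UnitsSh.unitOfSect ((oneAdd hc).hom.app (op V) k) : (Γ(Z, V))ˣ) : Γ(Z, V)) = 1 + kval c V k := rfl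

theorem oneAdd_comap (hc : IsSqZero c) : oneAdd hc ≫ UnitsSh.comap c = 0 := by
  apply Sheaf.hom_ext
  ext V (k : Γ(kerMod c, V.unop))
  refine congrArg UnitsSh.sectOfUnit (Units.ext ?_)
  show c.app V.unop (1 + kval c V.unop k) = 1
  rw [map_add, map_one, app_kval, add_zero]

/-- The pushed units sequence. -/
def unitsSeq (hc : IsSqZero c) (i : Z ⟶ X) : ShortComplex (CohTop.Ab X.toTopCat) :=
  ShortComplex.mk ((CohTop.push i.base).map (oneAdd hc)) ((CohTop.push i.base).map (UnitsSh.comap c))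
    (by rw [← Functor.map_comp, oneAdd_comap hc, Functor.map_zero])

theorem exists_oneAdd (hc : IsSqZero c) {V : Z.Opens} (v : (Γ(Z, V))ˣ) (hv : c.app V (v : Γ(Z, V)) = 1) :
    ∃ k, oneAddUnit hc V k = v := by
  obtain ⟨k, hk⟩ := exists_kval c (a := (v : Γ(Z, V)) - 1) (by rw [map_sub, hv, map_one, sub_self])
  exact ⟨k, Units.ext (by show 1 + kval c V k = _; rw [hk]; ring)⟩

theorem exists_unit_lift (hc : IsSqZero c) [IsClosedImmersion c] {W : Z.Opens} (hW : IsAffineOpen W)
    (v : (Γ(Z', c ⁻¹ᵁ W))ˣ) : ∃ r : (Γ(Z, W))ˣ, c.app W (r : Γ(Z, W)) = v := by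
  obtain ⟨r, hr⟩ := c.app_surjective W hW (v : Γ(Z', c ⁻¹ᵁ W))
  obtain ⟨r', hr'⟩ := c.app_surjective W hW ((v⁻¹ : (Γ(Z', c ⁻¹ᵁ W))ˣ) : Γ(Z', c ⁻¹ᵁ W))
  have hk : c.app W (r * r' - 1) = 0 := by
    rw [map_sub, map_mul, map_one, hr, hr', Units.mul_inv, sub_self]
  have h2 := hc W _ _ hk hk
  have hu : IsUnit r := IsUnit.of_mul_eq_one (r' * (1 - (r * r' - 1))) (by linear_combination -h2)
  exact ⟨hu.unit, hr⟩

theorem unitsSeq_shortExact (hc : IsSqZero c) [IsClosedImmersion c] (i : Z ⟶ X) [IsAffineHom i] :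
    (unitsSeq hc i).ShortExact := by
  refine shortExact_of_sections _ (fun V => ?_) (fun V a ha => ?_) fun V x hx t => ?_
  · intro (k : Γ(kerMod c, i ⁻¹ᵁ V)) (l : Γ(kerMod c, i ⁻¹ᵁ V)) hkl
    have h := congrArg (fun s : (UnitsSh.pre Z.presheaf).obj (op (i ⁻¹ᵁ V)) =>
      ((UnitsSh.unitOfSect s : (Γ(Z, i ⁻¹ᵁ V))ˣ) : Γ(Z, i ⁻¹ᵁ V))) hkl
    exact kval_injective c _ (add_left_cancel h)
  · have h := congrArg (fun s : (UnitsSh.pre Z'.presheaf).obj (op (c ⁻¹ᵁ (i ⁻¹ᵁ V))) =>
      ((UnitsSh.unitOfSect s : (Γ(Z', c ⁻¹ᵁ (i ⁻¹ᵁ V)))ˣ) : Γ(Z', c ⁻¹ᵁ (i ⁻¹ᵁ V)))) ha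
    obtain ⟨k, hk⟩ := exists_oneAdd hc (V := i ⁻¹ᵁ V) (UnitsSh.unitOfSect a) h
    exact ⟨k, congrArg UnitsSh.sectOfUnit hk⟩
  · obtain ⟨W, hW, hxW, hWV⟩ := exists_isAffineOpen_mem_and_subset (x := x) (U := V) hx
    refine ⟨W, hWV, hxW, ?_⟩
    let t' : (unitsSeq hc i).X₃.obj.obj (op W) :=
      (unitsSeq hc i).X₃.obj.map (homOfLE (show W ≤ V from hWV)).op t
    obtain ⟨r, hr⟩ := exists_unit_lift hc (hW.preimage i) (UnitsSh.unitOfSect (O := Z'.presheaf) t')
    exact ⟨UnitsSh.sectOfUnit (O := Z.presheaf) r, congrArg UnitsSh.sectOfUnit (Units.ext hr)⟩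

theorem push_id_map {F G : CohTop.Ab Z.toTopCat} (φ : F ⟶ G) :
    (CohTop.push (𝟙 Z : Z ⟶ Z).base).map φ = φ := rfl

end GrothLib.UnitsThick26
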