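import Groth.Agent.Lib.UnitsThick26.Vanish
import Mathlib.RingTheory.Artinian.Ring

/-!
# Units of flat schemes over Artinian local rings along chains of ideals
-/

universe u

set_option backward.isDefEq.respectTransparency false

open CategoryTheory CategoryTheory.Limits AlgebraicGeometry TopologicalSpace Opposite Abelian

noncomputable section

namespace GrothLib.UnitsThick26

theorem comap_comp {Z' Z X : Scheme.{u}} (c : Z' ⟶ Z) (i : Z ⟶ X) {i' : Z' ⟶ X} (h : c ≫ i = i') :
    (UnitsSh.comap i' : UnitsSh.unitsAb X ⟶ (CohTop.push i'.base).obj (UnitsSh.unitsAb Z')) =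
      (UnitsSh.comap i ≫ (CohTop.push i.base).map (UnitsSh.comap c) ≫
        eqToHom (by subst h; rfl)) := by
  subst h
  rw [eqToHom_refl, Category.comp_id]
  apply Sheaf.hom_ext
  ext V (s : (UnitsSh.pre X.presheaf).obj (op V.unop))
  refine congrArg UnitsSh.sectOfUnit (Units.ext ?_)
  rfl

theorem isIso_comap {Z X : Scheme.{u}} (i : Z ⟶ X) [IsIso i] : IsIso (UnitsSh.comap i) := by
  haveI : ∀ V, IsIso ((UnitsSh.comap i).hom.app V) := fun V => by
    haveI : IsIso (i.c.app V) := inferInstanceAs (IsIso (i.app V.unop))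
    show IsIso (UnitsSh.unitsFunctor.map (i.c.app V))
    infer_instance
  haveI : IsIso ((sheafToPresheaf (Opens.grothendieckTopology X) AddCommGrpCat.{u}).map (UnitsSh.comap i)) :=
    NatIso.isIso_of_isIso_app (UnitsSh.comap i).hom
  exact isIso_of_fully_faithful (sheafToPresheaf (Opens.grothendieckTopology X) AddCommGrpCat.{u}) (UnitsSh.comap i)

theorem subsingleton_H_of_isZero {X : TopCat.{u}} {F : CohTop.Ab X} (hF : IsZero F) (n : ℕ) :
    Subsingleton (Sheaf.H.{u} F n) := by
  refine subsingleton_of_forall_eq 0 fun x => ?_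
  rw [← Sheaf.H.map_id_apply x, hF.eq_of_src (𝟙 F) 0, Sheaf.H.map_apply, Ext.mk₀_zero, Ext.comp_zero]

/-- Vanishing of the cohomology of the kernel of a composite. -/
theorem subsingleton_H_kernel_comp {X : TopCat.{u}} {F G K K' : CohTop.Ab X} (f : F ⟶ G) (g : G ⟶ K)
    (e : K ⟶ K') [Epi f] [IsIso e] (q : ℕ) (h1 : Subsingleton (Sheaf.H.{u} (kernel f) q))
    (h2 : Subsingleton (Sheaf.H.{u} (kernel g) q)) : Subsingleton (Sheaf.H.{u} (kernel (f ≫ g ≫ e)) q) := by
  have h := subsingleton_middle (shortExact_kernels_comp f g) q h1 h2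
  rw [← Category.assoc]
  exact (HIso (kernelCompMono (f ≫ g) e) q).toEquiv.subsingleton

variable {A : Type u} [CommRing A] {X : Scheme.{u}} (g : X ⟶ Spec (CommRingCat.of A))

/-- The closed subscheme over `A ⧸ J`. -/
abbrev sub (J : Ideal A) : Scheme.{u} := pullback g (Spec.map (CommRingCat.ofHom (Ideal.Quotient.mk J)))

/-- Its immersion. -/
abbrev imm (J : Ideal A) : sub g J ⟶ X := pullback.fst g (Spec.map (CommRingCat.ofHom (Ideal.Quotient.mk J)))

theorem isPullback_sub (J : Ideal A) : IsPullback (imm g J) (pullback.snd _ _) g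
    (Spec.map (CommRingCat.ofHom (Ideal.Quotient.mk J))) := IsPullback.of_hasPullback _ _

theorem isClosedImmersion_imm (J : Ideal A) : IsClosedImmersion (imm g J) :=
  MorphismProperty.of_isPullback (isPullback_sub g J).flip
    (IsClosedImmersion.spec_of_surjective _ Ideal.Quotient.mk_surjective)

theorem exists_between {L : Type u} [CommRing L] {Y : Scheme.{u}} {j : Y ⟶ X} {p : Y ⟶ Spec (CommRingCat.of L)}
    {J₀ : Ideal A} (σ : A ⧸ J₀ →+* L)
    (H : IsPullback j p g (Spec.map (CommRingCat.ofHom (σ.comp (Ideal.Quotient.mk J₀))))) :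
    ∃ c : Y ⟶ sub g J₀, c ≫ imm g J₀ = j ∧
      IsPullback c p (pullback.snd g (Spec.map (CommRingCat.ofHom (Ideal.Quotient.mk J₀))))
        (Spec.map (CommRingCat.ofHom σ)) := by
  have e : Spec.map (CommRingCat.ofHom σ) ≫ Spec.map (CommRingCat.ofHom (Ideal.Quotient.mk J₀)) =
      Spec.map (CommRingCat.ofHom (σ.comp (Ideal.Quotient.mk J₀))) := by
    rw [← Spec.map_comp]; rfl
  let c : Y ⟶ sub g J₀ := pullback.lift j (p ≫ Spec.map (CommRingCat.ofHom σ)) (by rw [Category.assoc, e, H.w])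
  refine ⟨c, pullback.lift_fst _ _ _, IsPullback.of_right ?_ (pullback.lift_snd _ _ _) (isPullback_sub g J₀)⟩
  rw [e, show c ≫ imm g J₀ = j from pullback.lift_fst _ _ _]
  exact H

variable [IsLocalRing A] [Flat g]

/-- The step of the chain. -/
theorem exists_step {J₀ J : Ideal A} (hJ : J ≤ IsLocalRing.maximalIdeal A) (h0 : J₀ ≤ J) {t : A}
    (htJ : J = J₀ ⊔ Ideal.span {t}) (ht : t ∉ J₀) (hmt : ∀ a ∈ IsLocalRing.maximalIdeal A, a * t ∈ J₀) :
    ∃ (c : sub g J ⟶ sub g J₀) (hsq : IsSqZero c), c ≫ imm g J₀ = imm g J ∧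
      (unitsSeq hsq (imm g J₀)).ShortExact ∧
      ∀ n, Nonempty (Sheaf.H.{u} (unitsSeq hsq (imm g J₀)).X₁ n ≃+
        Coh.HH (pullback g (Spec.map (CommRingCat.ofHom (IsLocalRing.residue A)))) (Coh.structureModule _) n) := by
  let σ : A ⧸ J₀ →+* A ⧸ J := Ideal.Quotient.factor h0
  let τ : A ⧸ J₀ →+* IsLocalRing.ResidueField A :=
    Ideal.Quotient.lift J₀ (IsLocalRing.residue A) fun a ha => (IsLocalRing.residue_eq_zero_iff a).2 (hJ (h0 ha))
  have hσ : σ.comp (Ideal.Quotient.mk J₀) = Ideal.Quotient.mk J := Ideal.Quotient.factor_comp_mk h0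
  have hτ : τ.comp (Ideal.Quotient.mk J₀) = IsLocalRing.residue A := Ideal.Quotient.lift_comp_mk _ _ _
  obtain ⟨c, hc, hcp⟩ := exists_between g σ (j := imm g J) (by rw [hσ]; exact isPullback_sub g J)
  obtain ⟨c₀, hc₀, hcp₀⟩ := exists_between g τ
    (j := pullback.fst g (Spec.map (CommRingCat.ofHom (IsLocalRing.residue A))))
    (by rw [hτ]; exact IsPullback.of_hasPullback _ _)
  have hσs : Function.Surjective σ := Ideal.Quotient.factor_surjective h0
  have hτs : Function.Surjective τ := fun b => by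
    obtain ⟨a, rfl⟩ := IsLocalRing.residue_surjective b
    exact ⟨Ideal.Quotient.mk J₀ a, rfl⟩
  have hker : RingHom.ker σ = Ideal.span {Ideal.Quotient.mk J₀ t} := by
    ext b
    obtain ⟨a, rfl⟩ := Ideal.Quotient.mk_surjective b
    rw [RingHom.mem_ker, ← RingHom.comp_apply, hσ, Ideal.Quotient.eq_zero_iff_mem, htJ,
      Ideal.mem_span_singleton', Submodule.mem_sup]
    constructor
    · rintro ⟨y, hy, z, hz, rfl⟩
      obtain ⟨w, rfl⟩ := Ideal.mem_span_singleton'.1 hz
      exact ⟨Ideal.Quotient.mk J₀ w, by rw [map_add, map_mul, Ideal.Quotient.eq_zero_iff_mem.2 hy, zero_add]⟩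
    · rintro ⟨w, hw⟩
      obtain ⟨w, rfl⟩ := Ideal.Quotient.mk_surjective w
      rw [← map_mul, Ideal.Quotient.eq] at hw
      exact ⟨a - w * t, by simpa using neg_mem hw, w * t, Ideal.mem_span_singleton'.2 ⟨w, rfl⟩, sub_add_cancel a _⟩
  have htm : t ∈ IsLocalRing.maximalIdeal A := hJ (htJ ▸ Submodule.mem_sup_right (Ideal.mem_span_singleton_self t))
  have htt : Ideal.Quotient.mk J₀ t * Ideal.Quotient.mk J₀ t = 0 := by
    rw [← map_mul, Ideal.Quotient.eq_zero_iff_mem]
    exact hmt t htm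
  have hann : ∀ b, b ∈ RingHom.ker τ ↔ b * Ideal.Quotient.mk J₀ t = 0 := fun b => by
    obtain ⟨a, rfl⟩ := Ideal.Quotient.mk_surjective b
    rw [RingHom.mem_ker, ← RingHom.comp_apply, hτ, IsLocalRing.residue_eq_zero_iff, ← map_mul,
      Ideal.Quotient.eq_zero_iff_mem]
    refine ⟨hmt a, fun h => ?_⟩
    by_contra ha
    rw [IsLocalRing.mem_maximalIdeal, mem_nonunits_iff, not_not] at ha
    exact ht ((Ideal.unit_mul_mem_iff_mem J₀ ha).1 h)
  have hsq := isSqZero_of_isPullback hcp hσs hker htt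
  haveI : IsClosedImmersion c :=
    MorphismProperty.of_isPullback hcp.flip (IsClosedImmersion.spec_of_surjective _ hσs)
  haveI := isClosedImmersion_imm g J₀
  refine ⟨c, hsq, hc, unitsSeq_shortExact hsq _, fun n => ?_⟩
  obtain ⟨e⟩ := nonempty_kerMod_iso hcp hσs hker hcp₀ hτs hann
  let j₀ := pullback.fst g (Spec.map (CommRingCat.ofHom (IsLocalRing.residue A)))
  haveI : IsClosedImmersion j₀ :=
    MorphismProperty.of_isPullback (IsPullback.of_hasPullback _ _).flip
      (IsClosedImmersion.spec_of_surjective _ IsLocalRing.residue_surjective)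
  haveI : (Coh.structureModule (pullback g (Spec.map (CommRingCat.ofHom (IsLocalRing.residue A))))).IsQuasicoherent :=
    InvExt.isQuasicoherent_of_isInvertible Euler.isInvertible_structure
  obtain ⟨d⟩ := Cohom.nonempty_HH_equiv_pushforward j₀ (Coh.structureModule _) n
  let e' : (Scheme.Modules.pushforward (imm g J₀)).obj (kerMod c) ≅
      (Scheme.Modules.pushforward j₀).obj (Coh.structureModule _) :=
    (Scheme.Modules.pushforward (imm g J₀)).mapIso e.symm ≪≫
      (Scheme.Modules.pushforwardComp c₀ (imm g J₀)).app _ ≪≫ (Scheme.Modules.pushforwardCongr hc₀).app _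
  exact ⟨(HIso ((SheafOfModules.toSheaf X.ringCatSheaf).mapIso e') n).trans d.symm⟩

variable [IsArtinianRing A]

omit [Flat g] in
/-- Induction along chains of ideals below the maximal one. -/
theorem ideal_induction {P : Ideal A → Prop} (hbot : P ⊥)
    (step : ∀ J₀ J : Ideal A, J ≤ IsLocalRing.maximalIdeal A → J₀ ≤ J → ∀ t, J = J₀ ⊔ Ideal.span {t} → t ∉ J₀ →
      (∀ a ∈ IsLocalRing.maximalIdeal A, a * t ∈ J₀) → P J₀ → P J)
    (J : Ideal A) (hJ : J ≤ IsLocalRing.maximalIdeal A) : P J := by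
  induction J using (wellFounded_lt : WellFounded ((· < ·) : Ideal A → Ideal A → Prop)).induction with
  | _ J ih =>
  by_cases hb : J = ⊥
  · exact hb ▸ hbot
  obtain ⟨J₀, hlt, hmax⟩ := (wellFounded_gt : WellFounded ((· > ·) : Ideal A → Ideal A → Prop)).has_min
    {K | K < J} ⟨⊥, bot_lt_iff_ne_bot.2 hb⟩
  replace hlt : J₀ < J := hlt
  obtain ⟨t, htJ, ht⟩ := SetLike.exists_of_lt hlt
  refine step J₀ J hJ hlt.le t ?_ ht ?_ (ih J₀ hlt (hlt.le.trans hJ))
  · refine (le_antisymm (sup_le hlt.le ((Ideal.span_singleton_le_iff_mem J).2 htJ)) ?_).symm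
    by_contra h
    exact hmax (J₀ ⊔ Ideal.span {t})
      (lt_of_le_not_ge (sup_le hlt.le ((Ideal.span_singleton_le_iff_mem J).2 htJ)) h)
      (lt_of_le_of_ne le_sup_left fun e => ht (e ▸ Submodule.mem_sup_right (Ideal.mem_span_singleton_self t)))
  · intro a ha
    by_contra hat
    have hle : J₀ ⊔ IsLocalRing.maximalIdeal A • J ≤ J := sup_le hlt.le Submodule.smul_le_right
    have heq : J ≤ J₀ ⊔ IsLocalRing.maximalIdeal A • J := by
      by_contra h
      exact hmax _ (lt_of_le_not_ge hle h) (lt_of_le_of_ne le_sup_left fun e =>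
        hat (e ▸ Submodule.mem_sup_right (Submodule.smul_mem_smul ha htJ)))
    exact ht (Submodule.le_of_le_smul_of_le_jacobson_bot (IsNoetherian.noetherian J)
      (IsLocalRing.maximalIdeal_le_jacobson _) heq htJ)

theorem isIso_imm_bot : IsIso (imm g (⊥ : Ideal A)) := by
  haveI : IsIso (Spec.map (CommRingCat.ofHom (Ideal.Quotient.mk (⊥ : Ideal A)))) := by
    haveI : IsIso (CommRingCat.ofHom (Ideal.Quotient.mk (⊥ : Ideal A))) :=
      (ConcreteCategory.isIso_iff_bijective _).2
        ⟨(RingHom.injective_iff_ker_eq_bot _).2 Ideal.mk_ker, Ideal.Quotient.mk_surjective⟩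
    infer_instance
  exact (isPullback_sub g ⊥).flip.isIso_snd_of_isIso

theorem surjective_H_map (q : ℕ)
    (hvan : Subsingleton (Coh.HH (pullback g (Spec.map (CommRingCat.ofHom (IsLocalRing.residue A))))
      (Coh.structureModule _) (q + 1))) (J : Ideal A) (hJ : J ≤ IsLocalRing.maximalIdeal A) :
    Function.Surjective (Sheaf.H.map (UnitsSh.comap (imm g J)) q) := by
  refine ideal_induction (P := fun J => Function.Surjective (Sheaf.H.map (UnitsSh.comap (imm g J)) q)) ?_ ?_ J hJ
  · haveI := isIso_imm_bot g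
    haveI := isIso_comap (imm g (⊥ : Ideal A))
    exact (HIso (asIso (UnitsSh.comap (imm g (⊥ : Ideal A)))) q).surjective
  · intro J₀ J hJ h0 t htJ ht hmt ih
    obtain ⟨c, hsq, hc, hS, he⟩ := exists_step g hJ h0 htJ ht hmt
    rw [comap_comp c (imm g J₀) hc]
    intro x
    obtain ⟨x', hx'⟩ := (HIso (eqToIso (show (CohTop.push (imm g J₀).base).obj ((CohTop.push c.base).obj
      (UnitsSh.unitsAb (sub g J))) = (CohTop.push (imm g J).base).obj (UnitsSh.unitsAb (sub g J)) by
        rw [← hc]; rfl)) q).surjective x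
    obtain ⟨y, hy⟩ := surjective_map_g hS q (he (q + 1)).some.toEquiv.subsingleton x'
    obtain ⟨z, rfl⟩ := ih y
    refine ⟨z, ?_⟩
    rw [Sheaf.H.map_comp_apply, Sheaf.H.map_comp_apply]
    exact (congrArg _ hy).trans hx'

theorem subsingleton_H_kernel (q : ℕ)
    (hvan : Subsingleton (Coh.HH (pullback g (Spec.map (CommRingCat.ofHom (IsLocalRing.residue A))))
      (Coh.structureModule _) q)) (J : Ideal A) (hJ : J ≤ IsLocalRing.maximalIdeal A) :
    Subsingleton (Sheaf.H.{u} (kernel (UnitsSh.comap (imm g J))) q) ∧ Epi (UnitsSh.comap (imm g J)) := by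
  refine ideal_induction (P := fun J => Subsingleton (Sheaf.H.{u} (kernel (UnitsSh.comap (imm g J))) q) ∧
    Epi (UnitsSh.comap (imm g J))) ?_ ?_ J hJ
  · haveI := isIso_imm_bot g
    haveI := isIso_comap (imm g (⊥ : Ideal A))
    exact ⟨subsingleton_H_of_isZero (isZero_kernel_of_mono _) q, inferInstance⟩
  · intro J₀ J hJ h0 t htJ ht hmt ⟨ih, hepi⟩
    obtain ⟨c, hsq, hc, hS, he⟩ := exists_step g hJ h0 htJ ht hmt
    rw [comap_comp c (imm g J₀) hc]
    haveI := hepi
    haveI : Epi ((CohTop.push (imm g J₀).base).map (UnitsSh.comap c)) := hS.epi_g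
    refine ⟨subsingleton_H_kernel_comp _ _ _ q ih ?_, inferInstance⟩
    haveI := hS.mono_f
    exact (HIso ((kernelIsKernel _).conePointUniqueUpToIso hS.fIsKernel) q).trans (he q).some |>.toEquiv.subsingleton

end GrothLib.UnitsThick26
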