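import Groth.Agent.Lib.UnitsThick26.Seq
import Groth.Agent.Lib.FinCov.FrameFree
import Groth.Agent.Lib.Cube.Mod
import Groth.Agent.Lib.RegSeqLoc.AnyBaseChange
import Groth.Agent.Lib.OX.Exact
import Groth.Agent.Lib.QCoh.ToSheaf
import Groth.Agent.Lib.QCoh.GenericPoint
import Mathlib.RingTheory.Flat.Basic
import Mathlib.CategoryTheory.Abelian.Basic

/-!
# The ideal of a small thickening of a flat scheme
-/

universe u

set_option backward.isDefEq.respectTransparency false

open CategoryTheory CategoryTheory.Limits AlgebraicGeometry TopologicalSpace Opposite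
open scoped TensorProduct

noncomputable section

namespace GrothLib.UnitsThick26

open GrothLib.Cube (cst res_cst)

theorem isIso_of_bijective_affine {X : Scheme.{u}} {M N : X.Modules} (f : M ⟶ N)
    (h : ∀ V : X.Opens, IsAffineOpen V → Function.Bijective (f.app V)) : IsIso f := by
  refine Scheme.Modules.Hom.isIso_iff_isIso_app.mpr fun W => (ConcreteCategory.isIso_iff_bijective _).mpr ?_
  let ι := {V : X.Opens // IsAffineOpen V ∧ V ≤ W}
  have hcov : W ≤ ⨆ V : ι, V.1 := fun x hx => by
    obtain ⟨V, hV, hxV, hVW⟩ := exists_isAffineOpen_mem_and_subset (x := x) (U := W) hx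
    exact Opens.mem_iSup.2 ⟨⟨V, hV, hVW⟩, hxV⟩
  have hnat : ∀ {U V : X.Opens} (hVU : V ≤ U) (m : Γ(M, U)),
      N.presheaf.map (homOfLE hVU).op (f.app U m) = f.app V (M.presheaf.map (homOfLE hVU).op m) :=
    fun hVU m => (ConcreteCategory.congr_hom (f.mapPresheaf.naturality (homOfLE hVU).op) m).symm
  have hinj : ∀ U : X.Opens, U ≤ W → ∀ a b : Γ(M, U), f.app U a = f.app U b → a = b := by
    intro U hU a b hab
    refine TopCat.Sheaf.eq_of_locally_eq' ⟨M.presheaf, M.isSheaf⟩ (fun V : {V : X.Opens // IsAffineOpen V ∧ V ≤ U} => V.1) U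
      (fun V => homOfLE V.2.2) (fun x hx => by
        obtain ⟨V, hV, hxV, hVU⟩ := exists_isAffineOpen_mem_and_subset (x := x) (U := U) hx
        exact Opens.mem_iSup.2 ⟨⟨V, hV, hVU⟩, hxV⟩) a b fun V => ?_
    refine (h V.1 V.2.1).1 ?_
    show f.app V.1 (M.presheaf.map _ a) = f.app V.1 (M.presheaf.map _ b)
    rw [← hnat V.2.2, ← hnat V.2.2, hab]
  refine ⟨fun a b => hinj W le_rfl a b, fun n => ?_⟩
  choose s hs using fun V : ι => (h V.1 V.2.1).2 (N.presheaf.map (homOfLE V.2.2).op n)
  obtain ⟨m, hm, -⟩ := TopCat.Sheaf.existsUnique_gluing' ⟨M.presheaf, M.isSheaf⟩ (fun V : ι => V.1) W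
    (fun V => homOfLE V.2.2) hcov s (fun V V' => by
      refine hinj _ (inf_le_left.trans V.2.2) _ _ ?_
      refine (hnat (inf_le_left : V.1 ⊓ V'.1 ≤ V.1) (s V)).symm.trans
        (Eq.trans ?_ (hnat (inf_le_right : V.1 ⊓ V'.1 ≤ V'.1) (s V')))
      rw [hs, hs, ← ConcreteCategory.comp_apply, ← Functor.map_comp,
        ← ConcreteCategory.comp_apply, ← Functor.map_comp]
      rfl)
  refine ⟨m, TopCat.Sheaf.eq_of_locally_eq' ⟨N.presheaf, N.isSheaf⟩ (fun V : ι => V.1) W
    (fun V => homOfLE V.2.2) hcov _ _ fun V => ?_⟩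
  show N.presheaf.map _ (f.app W m) = _
  rw [hnat V.2.2]
  exact (congrArg (f.app V.1) (hm V)).trans (hs V)

theorem epi_unitToPush {Z X : Scheme.{u}} (c : Z ⟶ X) [IsClosedImmersion c] : Epi (ClSub.unitToPush c) := by
  refine (OX.epi_iff _).2 fun x => (ModuleCat.epi_iff_surjective _).2 ?_
  intro e
  obtain ⟨U, hx, m, rfl⟩ := TopCat.Presheaf.exists_germ_eq
    ((Scheme.Modules.pushforward c).obj (Coh.structureModule Z)).presheaf
    (show ((Scheme.Modules.pushforward c).obj (Coh.structureModule Z)).presheaf.stalk x from e)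
  obtain ⟨W, hW, hxW, hWU⟩ := exists_isAffineOpen_mem_and_subset (x := x) (U := U) hx
  obtain ⟨r, hr⟩ := c.app_surjective W hW
    (((Scheme.Modules.pushforward c).obj (Coh.structureModule Z)).presheaf.map (homOfLE (show W ≤ U from hWU)).op m)
  refine ⟨(Coh.structureModule X).presheaf.germ W x hxW r, ?_⟩
  change QCoh.stalkLin (ClSub.unitToPush c) x ((Coh.structureModule X).presheaf.germ W x hxW r) = _
  rw [QCoh.stalkLin_germ]
  have h1 : (ClSub.unitToPush c).app W r = ((Scheme.Modules.pushforward c).obj (Coh.structureModule Z)).presheaf.map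
      (homOfLE (show W ≤ U from hWU)).op m := hr
  rw [h1]
  exact TopCat.Presheaf.germ_res_apply _ _ _ _ _

variable {A L : Type u} [CommRing A] [CommRing L] {X Y : Scheme.{u}} {g : X ⟶ Spec (CommRingCat.of A)}
  {j : Y ⟶ X} {p : Y ⟶ Spec (CommRingCat.of L)} {φ : A →+* L}

/-- The kernel on an affine open of a base change of `Spec L ⟶ Spec A`. -/
theorem ker_app_of_isPullback (H : IsPullback j p g (Spec.map (CommRingCat.ofHom φ)))
    (hφ : Function.Surjective φ) {V : X.Opens} (hV : IsAffineOpen V) :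
    RingHom.ker (j.app V).hom = (RingHom.ker φ).map (cst g V) := by
  haveI : IsClosedImmersion (Spec.map (CommRingCat.ofHom φ)) := IsClosedImmersion.spec_of_surjective _ hφ
  haveI : IsClosedImmersion ((Spec.map (CommRingCat.ofHom φ)) ∣_ (⊤ : (Spec (CommRingCat.of A)).Opens)) :=
    IsZariskiLocalAtTarget.restrict (P := @IsClosedImmersion) inferInstance _
  obtain ⟨-, h⟩ := RegSeqLoc.ker_of_isPullback (i := Spec.map (CommRingCat.ofHom φ)) (g := g) (i' := j) (g' := p)
    H.flip ⟨⊤, isAffineOpen_top _⟩ ‹_› hV (le_top : V ≤ g ⁻¹ᵁ ⊤)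
  rw [h, cst, ← Ideal.map_map]
  congr 1
  let eA := (Scheme.ΓSpecIso (CommRingCat.of A)).commRingCatIsoToRingEquiv
  let eL := (Scheme.ΓSpecIso (CommRingCat.of L)).commRingCatIsoToRingEquiv
  have hnat : ∀ x, eL ((Spec.map (CommRingCat.ofHom φ)).appTop.hom x) = φ (eA x) := fun x => by
    have := congrArg (fun q => (CommRingCat.Hom.hom q) x) (Scheme.ΓSpecIso_naturality (CommRingCat.ofHom φ))
    exact this
  ext x
  rw [show (Scheme.ΓSpecIso (CommRingCat.of A)).inv.hom = (eA.symm : A →+* _) from rfl]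
  rw [Ideal.map_coe, Ideal.map_symm, Ideal.mem_comap, RingHom.mem_ker, RingHom.mem_ker]
  show (Spec.map (CommRingCat.ofHom φ)).appTop.hom x = 0 ↔ φ (eA x) = 0
  rw [← hnat, map_eq_zero_iff eL eL.injective]

/-- Annihilators extend along flat maps. -/
theorem mem_map_of_mul_eq_zero {A B : Type u} [CommRing A] [CommRing B] (f : A →+* B) (hf : f.Flat)
    {t : A} {m : Ideal A} (hm : ∀ a, a * t = 0 → a ∈ m) {x : B} (hx : x * f t = 0) : x ∈ m.map f := by
  let _ : Algebra A B := f.toAlgebra
  haveI : Module.Flat A B := hf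
  let μ : A →ₗ[A] A := LinearMap.toSpanSingleton A A t
  have hex : Function.Exact (LinearMap.ker μ).subtype μ := LinearMap.exact_subtype_ker_map μ
  have hex' := Module.Flat.lTensor_exact B hex
  have h0 : μ.lTensor B (x ⊗ₜ[A] (1 : A)) = 0 := by
    rw [LinearMap.lTensor_tmul]
    show x ⊗ₜ[A] ((1 : A) • t) = 0
    rw [one_smul, show t = t • (1 : A) by simp, ← TensorProduct.smul_tmul, Algebra.smul_def,
      RingHom.algebraMap_toAlgebra, mul_comm, hx, TensorProduct.zero_tmul]
  obtain ⟨z, hz⟩ := (hex' _).1 h0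
  have hz' : x = (TensorProduct.rid A B) ((LinearMap.ker μ).subtype.lTensor B z) := by rw [hz]; simp
  rw [hz']
  clear hz hz'
  induction z with
  | zero => simp
  | add a b ha hb => rw [map_add, map_add]; exact add_mem ha hb
  | tmul b a =>
    rw [LinearMap.lTensor_tmul, TensorProduct.rid_tmul, Submodule.subtype_apply, Algebra.smul_def,
      RingHom.algebraMap_toAlgebra]
    exact Ideal.mul_mem_right b _ (Ideal.mem_map_of_mem f (hm _ (LinearMap.mem_ker.1 a.2)))

theorem flat_cst [Flat g] {V : X.Opens} (hV : IsAffineOpen V) : (cst g V).Flat :=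
  RingHom.Flat.comp
    (RingHom.Flat.of_bijective (ConcreteCategory.bijective_of_isIso (Scheme.ΓSpecIso (CommRingCat.of A)).inv))
    (g.flat_appLE (isAffineOpen_top _) hV le_top)

variable {L₀ : Type u} [CommRing L₀] {Y₀ : Scheme.{u}} {j₀ : Y₀ ⟶ X} {p₀ : Y₀ ⟶ Spec (CommRingCat.of L₀)}
  {ψ : A →+* L₀} {t : A}

theorem isSqZero_of_isPullback (H : IsPullback j p g (Spec.map (CommRingCat.ofHom φ)))
    (hφ : Function.Surjective φ) (ht : RingHom.ker φ = Ideal.span {t}) (htt : t * t = 0) : IsSqZero j := by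
  refine isSqZero_of_affine j fun W hW a b ha hb => ?_
  have e : RingHom.ker (j.app W).hom = Ideal.span {cst g W t} := by
    rw [ker_app_of_isPullback H hφ hW, ht, Ideal.map_span, Set.image_singleton]
  obtain ⟨a', rfl⟩ := Ideal.mem_span_singleton'.1 (e ▸ (show a ∈ RingHom.ker (j.app W).hom from ha))
  obtain ⟨b', rfl⟩ := Ideal.mem_span_singleton'.1 (e ▸ (show b ∈ RingHom.ker (j.app W).hom from hb))
  have h2 : cst g W t * cst g W t = 0 := by rw [← map_mul, htt, map_zero]
  linear_combination (a' * b') * h2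

/-- The ideal of `Y ⊆ X` is `j₀_* O`. -/
theorem nonempty_kerMod_iso [Flat g] (H : IsPullback j p g (Spec.map (CommRingCat.ofHom φ)))
    (hφ : Function.Surjective φ) (ht : RingHom.ker φ = Ideal.span {t})
    (H₀ : IsPullback j₀ p₀ g (Spec.map (CommRingCat.ofHom ψ))) (hψ : Function.Surjective ψ)
    (hann : ∀ a, a ∈ RingHom.ker ψ ↔ a * t = 0) :
    Nonempty ((Scheme.Modules.pushforward j₀).obj (Coh.structureModule Y₀) ≅ kerMod j) := by
  haveI : IsClosedImmersion j₀ :=
    MorphismProperty.of_isPullback H₀.flip (IsClosedImmersion.spec_of_surjective _ hψ)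
  have hkj : ∀ {V : X.Opens}, IsAffineOpen V → RingHom.ker (j.app V).hom = Ideal.span {cst g V t} :=
    fun hV => by rw [ker_app_of_isPullback H hφ hV, ht, Ideal.map_span, Set.image_singleton]
  have hct : j.app ⊤ (cst g ⊤ t) = 0 := by
    refine TopCat.Presheaf.section_ext Y.sheaf _ _ _ fun y hy => ?_
    obtain ⟨V, hV, hyV, -⟩ := exists_isAffineOpen_mem_and_subset (x := j y) (U := (⊤ : X.Opens)) trivial
    have h1 : j.app V (cst g V t) = 0 := (hkj hV).ge (Ideal.mem_span_singleton_self _)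
    have h2 : Y.presheaf.map (homOfLE (j.preimage_mono (le_top : V ≤ ⊤))).op (j.app ⊤ (cst g ⊤ t)) = 0 := by
      refine (ConcreteCategory.congr_hom (j.naturality (homOfLE (le_top : V ≤ ⊤)).op) _).symm.trans ?_
      rw [ConcreteCategory.comp_apply]
      exact (congrArg (j.app V) (res_cst g (le_top : V ≤ ⊤) t)).trans h1
    show Y.presheaf.germ _ y hy _ = Y.presheaf.germ _ y hy 0
    rw [← TopCat.Presheaf.germ_res_apply Y.presheaf (homOfLE (j.preimage_mono (le_top : V ≤ ⊤))) y hyV]
    rw [h2, map_zero, map_zero]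
  obtain ⟨s, hs⟩ := exists_kval j hct
  let μ := FinCov.homOfSection (N := kerMod j) s
  have hμ : ∀ (V : X.Opens) (x : Γ(X, V)), kval j V (μ.app V x) = x * cst g V t := fun V x => by
    have h1 : μ.app V x = x • μ.app V (FinCov.one X V) := by
      rw [← Scheme.Modules.Hom.app_smul]
      congr 1
      exact (mul_one x).symm
    rw [h1, FinCov.homOfSection_one, show kval j V _ = _ from
      Scheme.Modules.Hom.app_smul (kernel.ι (ClSub.unitToPush j)) x _]
    show x * kval j V ((kerMod j).presheaf.map _ s) = _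
    rw [kval_map j (V := ⊤) (W := V), hs]
    exact congrArg (x * ·) (res_cst g (le_top : V ≤ ⊤) t)
  have hann' : ∀ {V : X.Opens}, IsAffineOpen V → ∀ x : Γ(X, V), j₀.app V x = 0 ↔ x * cst g V t = 0 := by
    intro V hV x
    have e := ker_app_of_isPullback H₀ hψ hV
    constructor
    · intro hx
      have hx' : x ∈ RingHom.ker (j₀.app V).hom := hx
      rw [e] at hx'
      refine Submodule.span_induction (p := fun y _ => y * cst g V t = 0) ?_ (zero_mul _)
        (fun a b _ _ ha hb => by rw [add_mul, ha, hb, add_zero])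
        (fun a b _ hb => by rw [smul_eq_mul, mul_assoc, hb, mul_zero]) hx'
      rintro _ ⟨a, ha, rfl⟩
      rw [← map_mul, (hann a).1 ha, map_zero]
    · intro hx
      have := mem_map_of_mul_eq_zero (cst g V) (flat_cst hV) (m := RingHom.ker ψ) (fun a ha => (hann a).2 ha) hx
      rw [← e] at this
      exact this
  have hzero : ∀ (V : X.Opens) (x : Γ(X, V)), j₀.app V x = 0 → x * cst g V t = 0 := by
    intro V x hx
    refine TopCat.Presheaf.section_ext X.sheaf V _ _ fun y hy => ?_
    obtain ⟨W, hW, hyW, hWV⟩ := exists_isAffineOpen_mem_and_subset (x := y) (U := V) hy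
    have h1 : j₀.app W (X.presheaf.map (homOfLE (show W ≤ V from hWV)).op x) = 0 := by
      refine (ConcreteCategory.congr_hom (j₀.naturality (homOfLE (show W ≤ V from hWV)).op) x).trans ?_
      show Y₀.presheaf.map _ (j₀.app V x) = 0
      rw [hx, map_zero]
    have h2 : X.presheaf.map (homOfLE (show W ≤ V from hWV)).op (x * cst g V t) = 0 := by
      rw [map_mul]
      exact (congrArg (X.presheaf.map (homOfLE (show W ≤ V from hWV)).op x * ·)
        (res_cst g (show W ≤ V from hWV) t)).trans ((hann' hW _).1 h1)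
    show X.presheaf.germ V y hy _ = X.presheaf.germ V y hy 0
    rw [← TopCat.Presheaf.germ_res_apply X.presheaf (homOfLE (show W ≤ V from hWV)) y hyW, h2, map_zero, map_zero]
  have hcomp : kernel.ι (ClSub.unitToPush j₀) ≫ μ = 0 := by
    refine Scheme.Modules.hom_ext _ _ fun V => AddCommGrpCat.ext fun k => ?_
    show μ.app V ((kernel.ι (ClSub.unitToPush j₀)).app V k) = 0
    refine kval_injective j V ((hμ V (kval j₀ V k)).trans ?_)
    rw [kval_zero]
    exact hzero V _ (app_kval j₀ V k)
  haveI := epi_unitToPush j₀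
  let δ := Abelian.epiDesc (ClSub.unitToPush j₀) μ hcomp
  have hδ : ClSub.unitToPush j₀ ≫ δ = μ := Abelian.comp_epiDesc (ClSub.unitToPush j₀) μ hcomp
  haveI : IsIso δ := by
    refine isIso_of_bijective_affine δ fun V hV => ?_
    have hfac : ∀ x : Γ(X, V), δ.app V ((ClSub.unitToPush j₀).app V x) = μ.app V x :=
      fun x => congrArg (fun q : Coh.structureModule X ⟶ kerMod j => q.app V x) hδ
    refine ⟨(injective_iff_map_eq_zero _).2 fun y hy => ?_, fun k => ?_⟩
    · obtain ⟨x, rfl⟩ := j₀.app_surjective V hV y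
      have h1 : μ.app V x = 0 := (hfac x).symm.trans hy
      exact (hann' hV x).2 ((hμ V x).symm.trans ((congrArg (kval j V) h1).trans (kval_zero j V)))
    · have hk : kval j V k ∈ RingHom.ker (j.app V).hom := app_kval j V k
      rw [hkj hV] at hk
      obtain ⟨x, hx⟩ := Ideal.mem_span_singleton'.1 hk
      exact ⟨(ClSub.unitToPush j₀).app V x, (hfac x).trans (kval_injective j V ((hμ V x).trans hx))⟩
  exact ⟨asIso δ⟩

end GrothLib.UnitsThick26
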