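import Groth.Agent.Lib.UnitsThick26.FlatIdeal
import Groth.Agent.Lib.Cohom.Compare
import Groth.Agent.Lib.InvExt.FiniteFibre
import Groth.Agent.Lib.Euler.Section

/-!
# Cohomology of the ideal of a small thickening
-/

universe u

open CategoryTheory CategoryTheory.Limits AlgebraicGeometry TopologicalSpace Opposite Abelian

noncomputable section

namespace GrothLib.UnitsThick26

/-- An isomorphism of sheaves gives an isomorphism on cohomology. -/
def HIso {X : TopCat.{u}} {F G : CohTop.Ab X} (e : F ≅ G) (n : ℕ) : Sheaf.H.{u} F n ≃+ Sheaf.H.{u} G n where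
  toFun := Sheaf.H.map e.hom n
  invFun := Sheaf.H.map e.inv n
  left_inv x := by rw [← Sheaf.H.map_comp_apply, e.hom_inv_id, Sheaf.H.map_id_apply]
  right_inv x := by rw [← Sheaf.H.map_comp_apply, e.inv_hom_id, Sheaf.H.map_id_apply]
  map_add' := map_add _

variable {A L L₀ : Type u} [CommRing A] [CommRing L] [CommRing L₀] {X Y Y₀ : Scheme.{u}}
  {g : X ⟶ Spec (CommRingCat.of A)} {j : Y ⟶ X} {p : Y ⟶ Spec (CommRingCat.of L)} {φ : A →+* L}
  {j₀ : Y₀ ⟶ X} {p₀ : Y₀ ⟶ Spec (CommRingCat.of L₀)} {ψ : A →+* L₀} {t : A}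

theorem nonempty_H_kerMod_equiv [Flat g] (H : IsPullback j p g (Spec.map (CommRingCat.ofHom φ)))
    (hφ : Function.Surjective φ) (ht : RingHom.ker φ = Ideal.span {t})
    (H₀ : IsPullback j₀ p₀ g (Spec.map (CommRingCat.ofHom ψ))) (hψ : Function.Surjective ψ)
    (hann : ∀ a, a ∈ RingHom.ker ψ ↔ a * t = 0) (n : ℕ) :
    Nonempty (Coh.HH X (kerMod j) n ≃+ Coh.HH Y₀ (Coh.structureModule Y₀) n) := by
  obtain ⟨e⟩ := nonempty_kerMod_iso H hφ ht H₀ hψ hann
  haveI : IsClosedImmersion j₀ :=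
    MorphismProperty.of_isPullback H₀.flip (IsClosedImmersion.spec_of_surjective _ hψ)
  haveI : (Coh.structureModule Y₀).IsQuasicoherent :=
    InvExt.isQuasicoherent_of_isInvertible Euler.isInvertible_structure
  obtain ⟨d⟩ := Cohom.nonempty_HH_equiv_pushforward j₀ (Coh.structureModule Y₀) n
  exact ⟨(HIso ((SheafOfModules.toSheaf X.ringCatSheaf).mapIso e.symm) n).trans d.symm⟩

end GrothLib.UnitsThick26
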